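import Cfsg.Agent.SEE.WY

/-!
# The wreathed configuration: the complement meets the simple group trivially
-/

set_option autoImplicit false
set_option linter.unusedSectionVars false
set_option linter.unusedVariables false

namespace Cfsg.Lib.SEE.Wr

open Subgroup Cfsg.Lib.Trans Cfsg.Lib.Gold
open Cfsg.Lib.SG2 (Top Uq)
open Cfsg.Lib.SF4.Wr (lcs)
open scoped commutatorElement

variable {G C : Type*} [Group G] [Finite G] [CommGroup C] [Finite C] [IsCyclic C] {ν : Nm}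
  {A B U V D E X P W T : Subgroup G} {θ η : G → ℤˣ × C} {t g g' p s v φ ψ : G} {q r e : ℕ}

namespace WX

theorem ord_two {H : Type*} [Group H] {f : H} (h1 : f ≠ 1) (h2 : f * f = 1) : orderOf f = 2 :=
  haveI := Fact.mk Nat.prime_two
  orderOf_eq_prime (by rw [sq, h2]) h1

theorem tw_ord {H : Type*} [Group H] {f : H} (h : Comp.Tw f) : ∃ k, orderOf f = 2 ^ k := by
  obtain ⟨n, hn⟩ := h
  obtain ⟨k, -, e⟩ := (Nat.dvd_prime_pow Nat.prime_two).1 (orderOf_dvd_of_pow_eq_one hn)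
  exact ⟨k, e⟩

theorem tw_snd (h : Fa ν A U D θ q) (hg : g ∈ Ns A) (h2 : Comp.Tw g) : Comp.Tw (θ g).2 :=
  h2.imp fun k e => by rw [← Prod.pow_snd, ← h.pow hg, e, h.one, Prod.snd_one]

theorem fst_sq (h : Fa ν A U D θ q) (hg : g ∈ Ns A) (n : ℕ) : (θ ((g * g) ^ n)).1 = 1 := by
  rw [h.pow (mul_mem hg hg), h.mul _ hg _ hg, Prod.pow_fst, Prod.fst_mul, Int.units_mul_self,
    one_pow]

variable (h : WR ν A B U V D E θ η q t X P)
include h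

theorem sq_mul (hp : p ∈ Ns (A ⊔ B)) (pA : p ∈ Ns A) (hs : s ∈ Ns (A ⊔ B)) (hn : s ∉ Ns A) :
    (θ (p * s * (p * s))).2 = (θ p).2 * (η p).2 * (θ (s * s)).2 := by
  have a1 := (h.conj_iff hs hp).2 pA
  rw [show p * s * (p * s) = p * (s * p * s⁻¹) * (s * s) by group,
    h.fa.mul _ (mul_mem pA a1) _ (h.idx s hs s hs hn hn), h.fa.mul _ pA _ a1,
    (h.conj_sw hs hn hp pA).1]
  rfl

theorem comm_sw (hp : p ∈ Ns (A ⊔ B)) (pA : p ∈ Ns A) (hs : s ∈ Ns (A ⊔ B)) (hn : s ∉ Ns A) :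
    (θ ⁅p, s⁆).2 = (θ p).2 * (η p).2⁻¹ := by
  rw [show ⁅p, s⁆ = p * (s * p⁻¹ * s⁻¹) by rw [commutatorElement_def]; group,
    h.fa.mul _ pA _ ((h.conj_iff hs (inv_mem hp)).2 (inv_mem pA)),
    (h.conj_sw hs hn (inv_mem hp) (inv_mem pA)).1, h.fb.inv (h.NB hp pA)]
  rfl

theorem lam_pow (hp : p ∈ Ns (A ⊔ B)) (pA : p ∈ Ns A) (n : ℕ) :
    (θ (p ^ n)).2 * (η (p ^ n)).2 = ((θ p).2 * (η p).2) ^ n := by
  rw [h.fa.pow pA, h.fb.pow (h.NB hp pA), mul_pow]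
  rfl

theorem lam_tw (hp : p ∈ P) (pA : p ∈ Ns A) : Comp.Tw ((θ p).2 * (η p).2) :=
  (Comp.Tw.of_mem h.two hp).imp fun k e => by
    rw [← lam_pow h (h.P_M hp) pA, e, h.fa.one, h.fb.one, Prod.snd_one, mul_one]

theorem last (hs : s ∈ P) (hX : s ∈ X) (hn : s ∉ Ns A) (s2 : s * s = 1)
    (hL : ∀ b ∈ P, b ∈ X → b ∈ Ns A → (θ b).2 * (η b).2 = 1) : False := by
  have PM := h.P_M
  have SM := h.S_M
  have tX := h.not_mem
  have wP := mul_mem hs h.mem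
  have wA := h.idx s (PM hs) t h.tM hn h.tN
  have wX : s * t ∉ X := fun k => tX ((mul_mem_cancel_left hX).1 k)
  have wi : t * (s * t) * t⁻¹ = (s * t)⁻¹ := eq_inv_of_mul_eq_one_right (by
    rw [show s * t * (t * (s * t) * t⁻¹) = s * (t * t) * s by group, h.t2, mul_one, s2])
  have w2 : s * t * (s * t) ≠ 1 := fun e => hn (h.nsw_c hX (by
    rw [← eq_inv_of_mul_eq_one_left e, mul_inv_eq_iff_eq_mul, ← mul_assoc] at wi
    exact mul_right_cancel wi))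
  obtain ⟨n, n1, n2⟩ := (Comp.Tw.of_mem h.two (mul_mem wP wP)).exists_invol w2
  have fP := pow_mem (mul_mem wP wP) n
  have fA := pow_mem (mul_mem wA wA) n
  have fX := pow_mem (h.top.ef_idx h.t2 wX wX) n
  have fe := (h.P_diag fP fA).1 (mul_inv_eq_iff_eq_mul.1 (by
    rw [← conj_pow, ← conj_mul, wi, ← mul_inv_rev, inv_pow, ← eq_inv_of_mul_eq_one_left n2]))
  have f2 : (θ ((s * t * (s * t)) ^ n)).2 ≠ 1 := fun e => by
    have := Prod.ext (y := 1) (fst_sq h.fa wA n) e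
    exact n1 (h.P_inj fP fA this (fe.trans this))
  have hφ : Ph D E θ η P _ := ⟨fP, h.P_nsw fP fA, n2, fe, f2⟩
  have fo := WP.ord2 h.fa fA n2 f2
  generalize (s * t * (s * t)) ^ n = φ at fP fA fX hφ fo
  obtain ⟨v, vP, vX, vA, j, hv, o1, mx⟩ : ∃ v ∈ P, v ∈ X ∧ v ∈ Ns A ∧ ∃ j,
      Ph D E θ η P (v ^ 2 ^ j) ∧ orderOf (θ v).2 = 2 ^ (j + 1) ∧
        ∀ b ∈ P, b ∈ X → b ∈ Ns A → orderOf (θ b).2 ≤ 2 ^ (j + 1) := by
    obtain ⟨⟨v, ⟨vP, vX⟩, vA⟩, mx⟩ :=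
      Finite.exists_max fun b : ↥(P ⊓ X ⊓ Ns A) => orderOf (θ b).2
    obtain ⟨k, hk⟩ := tw_ord (tw_snd h.fa vA (.of_mem h.two vP))
    replace mx : ∀ b ∈ P, b ∈ X → b ∈ Ns A → orderOf (θ b).2 ≤ 2 ^ k := fun b a1 a2 a3 =>
      hk ▸ mx ⟨b, ⟨a1, a2⟩, a3⟩
    rcases k with _ | _ | j
    · have := mx φ fP fX fA
      omega
    · exact ⟨φ, fP, fX, fA, 0, by simpa using hφ, fo, mx⟩
    · have e1 : orderOf (θ (v ^ 2 ^ (j + 1))).2 = 2 := by
        rw [h.fa.pow vA, Prod.pow_snd, orderOf_pow_of_dvd (by positivity)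
          (hk ▸ pow_dvd_pow 2 (by omega)), hk, pow_succ, Nat.mul_div_cancel_left _ (by positivity)]
      refine ⟨v, vP, vX, vA, j + 1, h.ph_of (pow_mem vP _) (pow_mem vA _) (Prod.ext ?_ ?_) e1, hk,
        mx⟩
      · rw [← WY.sq_pow, fst_sq h.fa vA, fst_sq h.fb (h.NB (PM vP) vA)]
      · rw [eq_inv_of_mul_eq_one_right (hL _ (pow_mem vP _) (pow_mem vX _) (pow_mem vA _))]
        exact inv_eq_of_mul_eq_one_right (by rw [← sq]; exact orderOf_dvd_iff_pow_eq_one.1 e1.dvd)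
  have k : ∀ a ∈ (U ⊔ V ⊔ P) ⊓ X, ∀ b ∈ (U ⊔ V ⊔ P) ⊓ X, a ∈ Ns A → b ∉ Ns A →
      (θ ⁅a, b⁆).2 ∈ zpowers ((θ v).2 ^ 2) := fun a ha b hb a1 b1 => by
    obtain ⟨-, -, -, -, p, hp, pX, -, c1, c2, -⟩ := WY.part h ha
    have pA := c1.1 a1
    obtain ⟨l, hl⟩ := tw_ord (tw_snd h.fa pA (.of_mem h.two hp))
    have c3 := mx p hp pX pA
    rw [hl, Nat.pow_le_pow_iff_right one_lt_two] at c3
    obtain ⟨m, e⟩ := Local.Iso.mem_zpowers_of_isCyclic o1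
      (orderOf_dvd_iff_pow_eq_one.1 (hl ▸ pow_dvd_pow 2 c3 : orderOf (θ p).2 ∣ _))
    rw [comm_sw h (SM ha.1) a1 (SM hb.1) b1, (c2 pA).1, (c2 pA).2,
      eq_inv_of_mul_eq_one_right (hL p hp pX pA), inv_inv, ← e]
    exact ⟨m, by simp only [sq, mul_zpow]⟩
  have k' : ∀ a ∈ (U ⊔ V ⊔ P) ⊓ X, ∀ b ∈ (U ⊔ V ⊔ P) ⊓ X, a ∉ Ns A → b ∈ Ns A →
      (θ ⁅a, b⁆).2 ∈ zpowers ((θ v).2 ^ 2) := fun a ha b hb a1 b1 => by
    rw [← commutatorElement_inv, h.fa.inv (g := ⁅b, a⁆) (Comp.comm_mem_of_idx h.idx (SM hb.1) (SM ha.1))]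
    exact inv_mem (k b hb a ha b1 a1)
  refine h.caseY vP vX vA hv (fun a ha b hb => ?_) fun s' a1 a2 a3 => ?_
  · by_cases a1 : a ∈ Ns A <;> by_cases b1 : b ∈ Ns A
    · rw [h.fa.comm a1 b1]; exact one_mem _
    · exact k a ha b hb a1 b1
    · exact k' a ha b hb a1 b1
    · rw [show ⁅a, b⁆ = ⁅a, b * a⁻¹⁆ by simp only [commutatorElement_def]; group]
      exact k' a ha _ (mul_mem hb (inv_mem ha)) a1
        (h.idx _ (SM hb.1) _ (inv_mem (SM ha.1)) b1 (mt inv_mem_iff.1 a1))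
  · have b1 := mul_mem a1 (inv_mem hs)
    have b2 := h.idx _ (PM a1) _ (inv_mem (PM hs)) a3 (mt inv_mem_iff.1 hn)
    have := sq_mul h (PM b1) b2 (PM hs) hn
    rwa [inv_mul_cancel_right, hL _ b1 (mul_mem a2 (inv_mem hX)) b2, s2, h.fa.one, Prod.snd_one,
      mul_one] at this

end WX

open WX

namespace WR
variable (h : WR ν A B U V D E θ η q t X P)
include h

theorem no_sw (hs : s ∈ P) (hX : s ∈ X) : s ∈ Ns A := by
  have := Fact.mk Nat.prime_two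
  by_contra hn
  obtain ⟨s, hs, hX, hn, g1⟩ := h.unt hs hX hn
  have PM := h.P_M
  have sM := PM hs
  by_cases ha : ∃ s' ∈ P, s' ∈ X ∧ s' ∉ Ns A ∧ orderOf (θ (s' * s')).2 = 2
  · obtain ⟨s', a1, a2, a3, a4⟩ := ha
    exact h.caseE a1 a2 a3 (j := 0) (by
      simpa using h.ph_of (mul_mem a1 a1) (h.idx _ (PM a1) _ (PM a1) a3 a3)
        (h.sq_sw (PM a1) a3).2 a4) (.inl rfl)
  have cl : ∀ b0 ∈ P, b0 ∈ X → b0 ∈ Ns A → (θ (s * s)).2 = (θ b0).2 * (η b0).2 →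
      ∀ b ∈ P, b ∈ X → b ∈ Ns A → (θ b).2 * (η b).2 = 1 := fun b0 a1 a2 a3 e b b1 b2 b3 => by
    by_contra ne
    obtain ⟨n, n1, n2⟩ := (lam_tw h b1 b3).exists_invol ne
    have c1 := mul_mem (pow_mem b1 n) (inv_mem a1)
    have c3 := mul_mem (pow_mem b3 n) (inv_mem a3)
    refine ha ⟨_, mul_mem c1 hs, mul_mem (mul_mem (pow_mem b2 n) (inv_mem a2)) hX,
      mt (mul_mem_cancel_left c3).1 hn, ?_⟩
    have a4 := h.NB (PM a1) a3
    rw [sq_mul h (PM c1) c3 sM hn, e, h.fa.mul _ (pow_mem b3 n) _ (inv_mem a3),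
      h.fb.mul _ (pow_mem (h.NB (PM b1) b3) n) _ (inv_mem a4), h.fa.inv a3, h.fb.inv a4,
      Prod.snd_mul, Prod.snd_mul, mul_mul_mul_comm (θ (b ^ n)).2, lam_pow h (PM b1) b3, Prod.snd_inv,
      Prod.snd_inv, ← mul_inv, inv_mul_cancel_right]
    exact ord_two n1 n2
  have cP := mul_mem hs hs
  have cA := h.idx s sM s sM hn hn
  have ce := (h.sq_sw sM hn).2
  by_cases g2 : (θ (s * s)).2 = 1
  · have e := Prod.ext (y := 1) g1 g2
    exact last h hs hX hn (h.P_inj cP cA e (ce.trans e)) (cl 1 (one_mem _) (one_mem _) (one_mem _)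
      (by rw [g2, h.fa.one, h.fb.one, Prod.snd_one, mul_one]))
  obtain ⟨k, hk⟩ := tw_ord (tw_snd h.fa cA (.of_mem h.two cP))
  rcases k with _ | j
  · exact g2 (orderOf_eq_one_iff.1 hk)
  refine h.caseE hs hX hn (j := j) (h.ph_of (pow_mem cP _) (pow_mem cA _) ?_ ?_)
    (.inr ⟨g1, fun s' a1 a2 a3 => ?_⟩)
  · rw [h.fa.pow cA, h.fb.pow (h.NB (PM cP) cA), ce]
  · rw [h.fa.pow cA, Prod.pow_snd, orderOf_pow_of_dvd (by positivity)
      (hk ▸ pow_dvd_pow 2 (by omega)), hk, pow_succ, Nat.mul_div_cancel_left _ (by positivity)]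
  · have b1 := mul_mem a1 (inv_mem hs)
    have b2 := mul_mem a2 (inv_mem hX)
    have b3 := h.idx _ (PM a1) _ (inv_mem sM) a3 (mt inv_mem_iff.1 hn)
    have e := sq_mul h (PM b1) b3 sM hn
    rw [inv_mul_cancel_right] at e
    generalize s' * s⁻¹ = b at b1 b2 b3 e
    obtain ⟨l, hl⟩ := tw_ord (lam_tw h b1 b3)
    have l1 : l ≤ j := by
      by_contra l1
      obtain ⟨n, en⟩ := mem_powers_iff_mem_zpowers.2 (Local.Iso.mem_zpowers_of_isCyclic hl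
        (orderOf_dvd_iff_pow_eq_one.1
          (hk ▸ pow_dvd_pow 2 (by omega) : orderOf (θ (s * s)).2 ∣ 2 ^ l)))
      replace en := (lam_pow h (PM b1) b3 n).trans en
      exact g2 (en.symm.trans (cl _ (pow_mem b1 n) (pow_mem b2 n) (pow_mem b3 n) en.symm _
        (pow_mem b1 n) (pow_mem b2 n) (pow_mem b3 n)))
    have l2 : ((θ b).2 * (η b).2) ^ 2 ^ j = 1 :=
      orderOf_dvd_iff_pow_eq_one.1 (hl ▸ pow_dvd_pow 2 l1)
    rw [e]
    refine orderOf_eq_prime_pow ?_ ?_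
    · rw [mul_pow, l2, one_mul]
      exact pow_ne_one_of_lt_orderOf (by positivity) (hk ▸ Nat.pow_lt_pow_right one_lt_two (by omega))
    · rw [mul_pow, ← hk, pow_orderOf_eq_one, hk, pow_succ, pow_mul, l2, one_pow, one_mul]

theorem P_X (hs : s ∈ P) (hX : s ∈ X) : s = 1 := by
  by_contra s1
  obtain ⟨z, ⟨zP, zX⟩, z1, z2, zc, -⟩ := Comp.exists_fix (Comp.Tw.of_sq h.t2).isPGroup
    (h.two.to_inf_left (K := X)) (zpowers_le.2 (mem_Ns_inf (le_normalizer h.mem) (h.nX t)))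
    fun e => s1 (mem_bot.1 (e.le ⟨hs, hX⟩))
  have zA := h.no_sw zP zX
  have ze := (h.P_diag zP zA).1 (mem_Cs.1 zc t (mem_zpowers t))
  by_cases k : ∃ φ, Ph D E θ η P φ ∧ φ ∈ X
  · obtain ⟨φ, hφ, φX⟩ := k
    have n : ∀ a ∈ (U ⊔ V ⊔ P) ⊓ X, a ∈ Ns A := fun a ha => by
      obtain ⟨-, -, -, -, p, hp, pX, -, c1, -⟩ := WY.part h ha
      exact c1.2 (h.no_sw hp pX)
    exact h.caseY hφ.mem φX (h.fa.DA hφ.nsw.1) (j := 0) (by simpa using hφ)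
      (fun a ha b hb => by rw [h.fa.comm (n a ha) (n b hb)]; exact one_mem _)
      fun s a b c => absurd (h.no_sw a b) c
  have e2 : (θ z).2 = 1 := by_contra fun e => k ⟨z, ⟨zP, h.P_nsw zP zA, z2, ze, e⟩, zX⟩
  have e : θ z = (-1, 1) := Prod.ext ((Int.units_eq_one_or _).resolve_left fun e1 => by
    have := Prod.ext (y := 1) e1 e2
    exact z1 (h.P_inj zP zA this (ze.trans this))) e2
  exact h.caseG (fun s a b => h.no_sw a b) zP zX e (ze.trans e) fun φ a b => k ⟨φ, a, b⟩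

theorem spl : SPL X A B U V ν.e := by
  have e : (U ⊔ V ⊔ P) ⊓ X = U ⊔ V := le_antisymm (fun g hg => by
    obtain ⟨c, hc, d, hd, p, hp, pX, rfl, -⟩ := WY.part h hg
    rw [h.P_X hp pX, mul_one]
    exact mul_mem_sup hc hd) (le_inf le_sup_left (h.UG.trans h.le))
  exact ⟨h.top.simple, h.top.perf, h.fa.um, h.fb.um, h.fa.perf, h.fb.perf, h.fa.syl.le,
    h.fb.syl.le, le_sup_left.trans h.le, le_sup_right.trans h.le, h.com, h.infU, e ▸ h.syl0⟩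

end WR

end Cfsg.Lib.SEE.Wr
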