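import Cfsg.Agent.SEE.Rt0

/-!
# Root tables for `E₆`, `E₇`, `E₈`: part 2
-/

set_option autoImplicit false
set_option maxHeartbeats 4000000

namespace Cfsg.Lib.SEE

variable {τ : Ty}

theorem cf_rf3 (a b : Φ τ) : cf (rf a b) 3 = cf b 3 - ip a b * cf a 3 := by
  revert τ; decide +kernel
theorem cf_rf4 (a b : Φ τ) : cf (rf a b) 4 = cf b 4 - ip a b * cf a 4 := by
  revert τ; decide +kernel
theorem cf_rf5 (a b : Φ τ) : cf (rf a b) 5 = cf b 5 - ip a b * cf a 5 := by
  revert τ; decide +kernel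

end Cfsg.Lib.SEE
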