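import Cfsg.Agent.SEE.Rt0

/-!
# Root tables for `E₆`, `E₇`, `E₈`: part 4
-/

set_option autoImplicit false
set_option maxHeartbeats 4000000

namespace Cfsg.Lib.SEE

variable {τ : Ty}

theorem ip_si (a b : Φ τ) : ip a b = ∑ i, cf a i * ip (si τ i) b := by
  simp only [Fin.sum_univ_eight]; revert τ; decide +kernel

end Cfsg.Lib.SEE
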