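import Cfsg.Agent.SEE.Rt0

/-!
# Root tables for `E₆`, `E₇`, `E₈`: part 5
-/

set_option autoImplicit false
set_option maxHeartbeats 4000000

namespace Cfsg.Lib.SEE

variable {τ : Ty}

theorem ip_cases (a b : Φ τ) : (ip a b = 2 ∧ b = a) ∨ ip a b = 1 ∨ ip a b = 0 ∨ ip a b = -1 ∨
    (ip a b = -2 ∧ b = ng a) := by revert τ; decide +kernel
theorem cd_inj (a b : Φ τ) : cd a = cd b → a = b := by revert τ; decide +kernel
theorem lt_rf (a b : Φ τ) : pos a → ip a b = -1 → b < rf a b := by revert τ; decide +kernel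

end Cfsg.Lib.SEE
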