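import Cfsg.Agent.SEE.Rt1
import Cfsg.Agent.SEE.Rt2
import Cfsg.Agent.SEE.Rt3
import Cfsg.Agent.SEE.Rt4
import Cfsg.Agent.SEE.Rt5

/-!
# Standard subgroups of type `E₆(2ⁿ)`, `E₇(2ⁿ)`, `E₈(2ⁿ)`: facts on the root systems
-/

set_option autoImplicit false
set_option linter.unusedSectionVars false
set_option maxHeartbeats 4000000

namespace Cfsg.Lib.SEE

variable {τ : Ty}


theorem ip_self (a : Φ τ) : ip a a = 2 := by revert τ; decide +kernel
theorem ng_ng (a : Φ τ) : ng (ng a) = a := Fin.rev_rev a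
theorem ng_ip (a b : Φ τ) : ip (ng a) b = -ip a b := by rw [ip_comm, ip_ng, ip_comm]
theorem cf_rf (a b : Φ τ) (i : Fin 8) : cf (rf a b) i = cf b i - ip a b * cf a i := by
  fin_cases i
  exacts [cf_rf0 a b, cf_rf1 a b, cf_rf2 a b, cf_rf3 a b, cf_rf4 a b, cf_rf5 a b, cf_rf6 a b, cf_rf7 a b]
theorem cf_ng (a : Φ τ) : ∀ i, cf (ng a) i = -cf a i := by revert τ; decide +kernel
theorem cd_eq (a : Φ τ) : (cd a : ℤ) = cf a 0 + 16 * (cf a 1 + 16 * (cf a 2 + 16 * (cf a 3 + 16 *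
    (cf a 4 + 16 * (cf a 5 + 16 * (cf a 6 + 16 * cf a 7)))))) + 0x88888888 := by
  revert τ; decide +kernel
theorem cf_inj (a b : Φ τ) (h : ∀ i, cf a i = cf b i) : a = b :=
  cd_inj a b (Int.natCast_inj.1 (by simp only [cd_eq, h]))
theorem gp_eq (h : τ ≠ .e6) (a : Φ τ) : gp a = a := by
  cases τ
  · exact (h rfl).elim
  all_goals revert a; decide +kernel
theorem ip_gp (a b : Φ τ) : ip (gp a) (gp b) = ip a b := by
  by_cases h : τ = .e6
  · subst h; revert a b; decide +kernel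
  · rw [gp_eq h, gp_eq h]
theorem gp_rf (a b : Φ τ) : gp (rf a b) = rf (gp a) (gp b) := by
  by_cases h : τ = .e6
  · subst h; revert a b; decide +kernel
  · rw [gp_eq h, gp_eq h, gp_eq h]
theorem gp_ng (a : Φ τ) : gp (ng a) = ng (gp a) := by revert τ; decide +kernel
theorem pos_ng (a : Φ τ) : pos (ng a) ↔ ¬ pos a := by revert τ; decide +kernel
theorem pos_iff (a : Φ τ) : pos a ↔ 0 < ht a := by revert τ; decide +kernel
theorem pos_gp (a : Φ τ) : pos (gp a) ↔ pos a := by revert τ; decide +kernel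

/-- Linearity of the inner product. -/
theorem ip_rf_left (a b c : Φ τ) : ip (rf a b) c = ip b c - ip a b * ip a c := by
  rw [ip_si (rf a b) c, ip_si b c, ip_si a c, Finset.mul_sum, ← Finset.sum_sub_distrib]
  exact Finset.sum_congr rfl fun i _ => by rw [cf_rf]; ring

theorem ip_rf_right (a b c : Φ τ) : ip c (rf a b) = ip c b - ip a b * ip c a := by
  rw [ip_comm, ip_rf_left, ip_comm b, ip_comm a c]

theorem ip_rf (d a b : Φ τ) : ip (rf d a) (rf d b) = ip a b := by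
  rw [ip_rf_left, ip_rf_right, ip_rf_right, ip_self, ip_comm a d]; ring

theorem rf_rf (a b : Φ τ) : rf a (rf a b) = b := cf_inj _ _ fun i => by
  rw [cf_rf, cf_rf, ip_rf_right, ip_self]; ring

theorem rf_zero {a b : Φ τ} (h : ip a b = 0) : rf a b = b := cf_inj _ _ fun i => by simp [cf_rf, h]

theorem rf_self (a : Φ τ) : rf a a = ng a := cf_inj _ _ fun i => by
  rw [cf_rf, cf_ng, ip_self]; ring

theorem rf_ng (a b : Φ τ) : rf a (ng b) = ng (rf a b) := cf_inj _ _ fun i => by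
  simp only [cf_rf, cf_ng, ip_ng]; ring

theorem ng_rf (a b : Φ τ) : rf (ng a) b = rf a b := cf_inj _ _ fun i => by
  simp only [cf_rf, cf_ng, ng_ip]; ring

theorem rf_comm {a b : Φ τ} (h : ip a b = -1) : rf a b = rf b a := cf_inj _ _ fun i => by
  simp only [cf_rf, h, ip_comm b a]; ring

theorem rf_rf_rf (d a b : Φ τ) : rf d (rf a b) = rf (rf d a) (rf d b) := cf_inj _ _ fun i => by
  rw [cf_rf (rf d a), ip_rf]; simp only [cf_rf, ip_rf_right]; ring

theorem gr_ht : Gr (ht : Φ τ → ℤ) :=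
  ⟨fun a b h => by simp only [ht, cf_rf, h]; ring, fun a => by simp only [ht, cf_ng]; ring,
    fun a => (pos_iff a).2⟩

theorem gr_ca : Gr (ca : Φ τ → ℤ) :=
  ⟨fun a b h => by simp only [ca, ip_rf_right, h]; ring, fun a => ip_ng _ _,
    by revert τ; decide +kernel⟩

theorem gr_cb : Gr (cb : Φ τ → ℤ) :=
  ⟨fun a b h => by simp only [cb, cf_rf, h]; ring, fun a => cf_ng _ _, by revert τ; decide +kernel⟩

theorem Gr.cl {φ : Φ τ → ℤ} (h : Gr φ) {k : ℤ} (hk : 1 ≤ k) : Cl fun r => k ≤ φ r :=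
  ⟨fun a ha => h.pos a (by omega), fun a ha b hb e => by
    have := h.add a b e
    simp only at ha hb ⊢; omega⟩

theorem cl_pos : Cl (pos : Φ τ → Prop) :=
  ⟨fun _ h => h, fun a ha b hb e => le_trans hb (lt_rf a b ha e).le⟩

theorem cl_ge {m : Φ τ} (hm : pos m) : Cl fun r => m ≤ r :=
  ⟨fun _ ha => le_trans hm ha, fun a ha b hb e => le_trans hb (lt_rf a b (le_trans hm ha) e).le⟩

theorem ca_two : ∀ r : Φ τ, 2 ≤ ca r ↔ r = th τ := by revert τ; decide +kernel
theorem cb_three : ∀ r : Φ τ, 3 ≤ cb r ↔ r = th τ ∨ r = t2 τ := by revert τ; decide +kernel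
theorem ca_of_cb : ∀ r : Φ τ, 2 ≤ cb r → 1 ≤ ca r := by revert τ; decide +kernel
theorem pK_iff : ∀ r : Φ τ, pK r ↔ 1 ≤ cb r ∨ (ca r = 0 ∧ cb r = 0) := by revert τ; decide +kernel
theorem ca_nonneg : ∀ r : Φ τ, pos r → 0 ≤ ca r := by revert τ; decide +kernel
theorem cb_nonneg : ∀ r : Φ τ, pos r → 0 ≤ cb r := by revert τ; decide +kernel
theorem cb_zero : ∀ r : Φ τ, cb r = 0 → ca r = 0 ∨ r = al τ ∨ r = ng (al τ) := by
  revert τ; decide +kernel
theorem le_th : ∀ r : Φ τ, r ≤ th τ := by revert τ; decide +kernel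

theorem mem_lp {r : Φ τ} : r ∈ lp τ ↔ pos r := by simp [lp]

theorem nodup_lp : (lp τ).Nodup := (List.nodup_finRange _).filter _


end Cfsg.Lib.SEE
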