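import Cfsg.Agent.SEE.Tab
import Cfsg.Agent.Chev.CoreTab
import Mathlib.Algebra.BigOperators.Fin
import Mathlib.Tactic.Ring

/-!
# Standard subgroups of type `E₆(2ⁿ)`, `E₇(2ⁿ)`, `E₈(2ⁿ)`: root systems and root elements

Roots are indexed by `Fin τ.n` as in `τ.D`; the order of the indices is compatible with addition.
All tables are packed numerals: root facts are proved by `decide +kernel` (quantify over `τ` too).
-/

set_option autoImplicit false
set_option linter.unusedSectionVars false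
set_option maxHeartbeats 4000000

namespace Cfsg.Lib.SEE

open Cfsg.Lib.Chev.Core (allLt allLt_iff)

/-- The three types. -/
inductive Ty
  | e6
  | e7
  | e8

namespace Ty

/-- Case distinction. -/
def sel {α : Type} (τ : Ty) (a b c : α) : α := Ty.casesOn (motive := fun _ => α) τ a b c

variable (τ : Ty)

/-- The number of roots. -/
def n : ℕ := τ.sel 72 126 240
/-- The rank. -/
def l : ℕ := τ.sel 6 7 8
/-- The number of positive roots. -/
def N : ℕ := τ.sel 36 63 120
/-- `Q = q^{1+2d}`. -/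
def d : ℕ := τ.sel 10 16 28
/-- The height of the highest root. -/
def c : ℕ := τ.sel 11 17 29
/-- Every involution is conjugate into the level `τ.h` of the height filtration. -/
def h : ℕ := τ.sel 7 9 17
/-- A lower bound for the exponent of `|C_L(v)|₂`, `v` an inner involution. -/
def m : ℕ := τ.sel 31 49 100
/-- A lower bound for the exponent of `|C_L(v)|₂`, `v` an involution of inner or graph type. -/
def a : ℕ := τ.sel 24 45 96
/-- The order of the group of diagram symmetries. -/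
def g : ℕ := τ.sel 2 1 1
/-- The Chevalley datum. -/
def D : Lie.ChevalleyDatum := τ.sel Lie.chevE6 Lie.chevE7 Lie.chevE8

instance instNeZeroN : NeZero τ.n := ⟨by cases τ <;> decide⟩

instance instDecAll (p : Ty → Prop) [DecidablePred p] : Decidable (∀ τ, p τ) :=
  decidable_of_iff (p e6 ∧ p e7 ∧ p e8)
    ⟨fun h τ => by cases τ; exacts [h.1, h.2.1, h.2.2], fun h => ⟨h _, h _, h _⟩⟩

theorem nroots_eq : τ.D.nroots = τ.n := by cases τ <;> rfl
theorem rank_eq : τ.D.rank = τ.l := by cases τ <;> rfl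

end Ty

/-- The index set of the roots. -/
abbrev Φ (τ : Ty) : Type := Fin τ.n

variable {τ : Ty}

instance (priority := high) instDecAllΦ (p : Φ τ → Prop) [DecidablePred p] : Decidable (∀ a, p a) :=
  decidable_of_iff (allLt τ.n (fun k => if h : k < τ.n then decide (p ⟨k, h⟩) else true) = true) (by
    rw [allLt_iff]
    exact ⟨fun h a => by simpa using h a.1 a.2, fun h m hm => by simpa [hm] using h _⟩)

instance (priority := high) instDecExΦ (p : Φ τ → Prop) [DecidablePred p] : Decidable (∃ a, p a) :=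
  decidable_of_iff (¬ ∀ a, ¬ p a) (by simp)

/-- A field of a packed numeral. -/
def fl (w row s : ℕ) : ℕ := Nat.mod (Nat.shiftRight row (Nat.mul w s)) (Nat.shiftLeft 1 w)

/-- The packed coefficients. -/
def cd (r : Φ τ) : ℕ := fl 32 (τ.sel cf6 cf7 cf8) r.val

/-- The coefficient of the `i`-th simple root (zero for `τ.l ≤ i`). -/
def cf (r : Φ τ) (i : Fin 8) : ℤ := Int.subNatNat (fl 4 (cd r) i.val) 8

/-- The inner product (roots have norm two). -/
def ip (a b : Φ τ) : ℤ :=
  Int.subNatNat (fl 3 (fl (Nat.mul 3 τ.n) (τ.sel ip6 ip7 ip8) a.val) b.val) 2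

/-- The reflection in `a` applied to `b`: `b + a` if `ip a b = -1`, `b - a` if `ip a b = 1`. -/
def rf (a b : Φ τ) : Φ τ :=
  Fin.ofNat τ.n (fl 8 (fl (Nat.mul 8 τ.n) (τ.sel rf6 rf7 rf8) a.val) b.val)

/-- The negative root. -/
def ng (r : Φ τ) : Φ τ := r.rev

/-- The symmetry of the diagram (the identity for `E₇`, `E₈`). -/
def gp (r : Φ τ) : Φ τ := Fin.ofNat τ.n (τ.sel (fl 8 gp6 r.val) r.val r.val)

variable (τ) in
/-- A root given by its three indices. -/
def ro (a b c : ℕ) : Φ τ := Fin.ofNat τ.n (τ.sel a b c)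

variable (τ) in
/-- The highest root `θ`. -/
def th : Φ τ := ro τ 71 125 239
variable (τ) in
/-- `θ - α`. -/
def t2 : Φ τ := ro τ 70 124 238
variable (τ) in
/-- `θ - α - β`. -/
def t3 : Φ τ := ro τ 69 123 237
variable (τ) in
/-- The simple root `α` not orthogonal to `θ`. -/
def al : Φ τ := ro τ 46 93 120
variable (τ) in
/-- The simple root `β` adjacent to `α`. -/
def be : Φ τ := ro τ 39 73 121
variable (τ) in
/-- The first root of the orthogonal pair with dominant sum. -/
def g0 : Φ τ := ro τ 66 118 232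
variable (τ) in
/-- The second root of the orthogonal pair with dominant sum. -/
def d0 : Φ τ := ro τ 68 121 233
variable (τ) in
/-- The `i`-th simple root (for `i < τ.l`). -/
def si (i : Fin 8) : Φ τ := Fin.ofNat τ.n (τ.D.simple i.val)

/-- The height. -/
def ht (r : Φ τ) : ℤ := cf r 0 + cf r 1 + cf r 2 + cf r 3 + cf r 4 + cf r 5 + cf r 6 + cf r 7
/-- The coefficient of `α`. -/
def ca (r : Φ τ) : ℤ := ip (th τ) r
/-- The coefficient of `β`. -/
def cb (r : Φ τ) : ℤ := cf r (τ.sel 3 2 6)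

/-- The positive roots. -/
abbrev pos (r : Φ τ) : Prop := τ.N ≤ r.val
/-- The roots of `K = C_L(E)`. -/
abbrev pK (r : Φ τ) : Prop := 0 ≤ ip (th τ) r ∧ 0 ≤ ip (t2 τ) r

/-- An additive function which is positive only on positive roots. -/
structure Gr (φ : Φ τ → ℤ) : Prop where
  add : ∀ a b, ip a b = -1 → φ (rf a b) = φ a + φ b
  ng : ∀ a, φ (ng a) = -φ a
  pos : ∀ a, 0 < φ a → pos a

/-- The root produced by the pair `a ≠ -b` (if any) satisfies `p`. -/
def Pd (a b : Φ τ) (p : Φ τ → Prop) : Prop := b ≠ ng a ∧ (ip a b = -1 → p (rf a b))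

instance instDecPd (a b : Φ τ) (p : Φ τ → Prop) [DecidablePred p] : Decidable (Pd a b p) :=
  inferInstanceAs (Decidable (_ ∧ _))

/-- `p` is a closed set of positive roots. -/
def Cl (p : Φ τ → Prop) : Prop :=
  (∀ a, p a → pos a) ∧ ∀ a, p a → ∀ b, p b → ip a b = -1 → p (rf a b)

instance instDecCl (p : Φ τ → Prop) [DecidablePred p] : Decidable (Cl p) :=
  inferInstanceAs (Decidable (_ ∧ _))

/-- The action of a word in reflections on the roots. -/
def aw (l : List (Φ τ)) (a : Φ τ) : Φ τ := l.foldr rf a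

variable (τ) in
/-- The positive roots in increasing order. -/
def lp : List (Φ τ) := (List.finRange τ.n).filter fun r => decide (pos r)

variable (τ) in
/-- Representatives of the classes of involutions other than root involutions. -/
def reps : List (List (Φ τ)) :=
  (τ.sel [[68, 66], [55, 65, 67]]
    [[118, 121], [114, 116, 119], [92, 107, 111], [92, 107, 111, 119]]
    [[232, 233], [228, 222, 218], [226, 220, 213, 216]]).map (List.map (Fin.ofNat τ.n))

theorem gp_gp (a : Φ τ) : gp (gp a) = a := by revert τ; decide +kernel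


variable (τ) in
/-- The symmetry of the diagram as a permutation. -/
def gm : Equiv.Perm (Φ τ) := ⟨gp, gp, gp_gp, gp_gp⟩

/-- The group of diagram symmetries. -/
def Gk (κ : Equiv.Perm (Φ τ)) : Prop := κ = 1 ∨ κ = gm τ

theorem Ty.sel_eq_1' : type_of% @Ty.sel.eq_1 := @Ty.sel.eq_1
theorem Ty.n_eq_1' : type_of% @Ty.n.eq_1 := @Ty.n.eq_1
theorem Ty.l_eq_1' : type_of% @Ty.l.eq_1 := @Ty.l.eq_1
theorem Ty.N_eq_1' : type_of% @Ty.N.eq_1 := @Ty.N.eq_1
theorem Ty.d_eq_1' : type_of% @Ty.d.eq_1 := @Ty.d.eq_1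
theorem Ty.c_eq_1' : type_of% @Ty.c.eq_1 := @Ty.c.eq_1
theorem Ty.m_eq_1' : type_of% @Ty.m.eq_1 := @Ty.m.eq_1
theorem Ty.h_eq_1' : type_of% @Ty.h.eq_1 := @Ty.h.eq_1
theorem Ty.a_eq_1' : type_of% @Ty.a.eq_1 := @Ty.a.eq_1
theorem Ty.g_eq_1' : type_of% @Ty.g.eq_1 := @Ty.g.eq_1
theorem Ty.D_eq_1' : type_of% @Ty.D.eq_1 := @Ty.D.eq_1
theorem Φ_eq_1' : type_of% @Φ.eq_1 := @Φ.eq_1
theorem fl_eq_1' : type_of% @fl.eq_1 := @fl.eq_1
theorem cd_eq_1' : type_of% @cd.eq_1 := @cd.eq_1
theorem cf_eq_1' : type_of% @cf.eq_1 := @cf.eq_1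
theorem ip_eq_1' : type_of% @ip.eq_1 := @ip.eq_1
theorem rf_eq_1' : type_of% @rf.eq_1 := @rf.eq_1
theorem ng_eq_1' : type_of% @ng.eq_1 := @ng.eq_1
theorem gp_eq_1' : type_of% @gp.eq_1 := @gp.eq_1
theorem ro_eq_1' : type_of% @ro.eq_1 := @ro.eq_1
theorem th_eq_1' : type_of% @th.eq_1 := @th.eq_1
theorem t2_eq_1' : type_of% @t2.eq_1 := @t2.eq_1
theorem t3_eq_1' : type_of% @t3.eq_1 := @t3.eq_1
theorem al_eq_1' : type_of% @al.eq_1 := @al.eq_1
theorem be_eq_1' : type_of% @be.eq_1 := @be.eq_1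
theorem g0_eq_1' : type_of% @g0.eq_1 := @g0.eq_1
theorem d0_eq_1' : type_of% @d0.eq_1 := @d0.eq_1
theorem si_eq_1' : type_of% @si.eq_1 := @si.eq_1
theorem ht_eq_1' : type_of% @ht.eq_1 := @ht.eq_1
theorem ca_eq_1' : type_of% @ca.eq_1 := @ca.eq_1
theorem cb_eq_1' : type_of% @cb.eq_1 := @cb.eq_1
theorem pos_eq_1' : type_of% @pos.eq_1 := @pos.eq_1
theorem pK_eq_1' : type_of% @pK.eq_1 := @pK.eq_1
theorem Pd_eq_1' : type_of% @Pd.eq_1 := @Pd.eq_1
theorem Cl_eq_1' : type_of% @Cl.eq_1 := @Cl.eq_1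
theorem aw_eq_1' : type_of% @aw.eq_1 := @aw.eq_1
theorem lp_eq_1' : type_of% @lp.eq_1 := @lp.eq_1
theorem reps_eq_1' : type_of% @reps.eq_1 := @reps.eq_1
theorem gm_eq_1' : type_of% @gm.eq_1 := @gm.eq_1
theorem Gk_eq_1' : type_of% @Gk.eq_1 := @Gk.eq_1

end Cfsg.Lib.SEE
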