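import Cfsg.Agent.SEE.Rt0

/-!
# Root tables for `E₆`, `E₇`, `E₈`: part 1
-/

set_option autoImplicit false
set_option maxHeartbeats 4000000

namespace Cfsg.Lib.SEE

variable {τ : Ty}

theorem cf_rf0 (a b : Φ τ) : cf (rf a b) 0 = cf b 0 - ip a b * cf a 0 := by
  revert τ; decide +kernel
theorem cf_rf1 (a b : Φ τ) : cf (rf a b) 1 = cf b 1 - ip a b * cf a 1 := by
  revert τ; decide +kernel
theorem cf_rf2 (a b : Φ τ) : cf (rf a b) 2 = cf b 2 - ip a b * cf a 2 := by
  revert τ; decide +kernel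

end Cfsg.Lib.SEE
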