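import Cfsg.Agent.SEE.WDef
import Cfsg.Agent.SF4.CP

/-!
# The wreathed configuration: basic lemmas
-/

set_option autoImplicit false
set_option linter.unusedSectionVars false
set_option linter.unusedVariables false

namespace Cfsg.Lib.SEE.Wr

open Subgroup Cfsg.Lib.Trans Cfsg.Lib.Gold
open Cfsg.Lib.SG2 (Top Uq)
open Cfsg.Lib.SF4.Wr (lcs)
open scoped commutatorElement

variable {G C : Type*} [Group G] [Finite G] [CommGroup C] [Finite C] [IsCyclic C] {ν : Nm}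
  {A B U V D E X P W T : Subgroup G} {θ η : G → ℤˣ × C} {t g g' p s v φ ψ : G} {q r e : ℕ}

open Cfsg.Lib.SF4.Wr (cj_cj_t tt_conj)

namespace WB

theorem tw_odd {K : Subgroup G} (ho : Odd (Nat.card K)) (hg : g ∈ K) (h2 : Comp.Tw g) : g = 1 := by
  obtain ⟨k, hk⟩ := h2
  rw [← orderOf_eq_one_iff]
  exact Nat.Coprime.eq_one_of_dvd ((Nat.coprime_two_right.2
    (ho.of_dvd_nat (orderOf_dvd_natCard _ hg))).pow_right k) (orderOf_dvd_of_pow_eq_one hk)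

theorem tw_mul (h1 : Comp.Tw g) (h2 : Comp.Tw g') (c : Commute g g') : Comp.Tw (g * g') := by
  obtain ⟨k, hk⟩ := h1
  obtain ⟨l, hl⟩ := h2
  refine ⟨k + l, ?_⟩
  rw [c.mul_pow, pow_add, pow_mul, hk, one_pow, mul_comm (2 ^ k), pow_mul, hl, one_pow, one_mul]

theorem tw_inv (h1 : Comp.Tw g) : Comp.Tw g⁻¹ := h1.imp fun _ e => by rw [inv_pow, e, inv_one]

theorem mem_Cs_sup (h1 : g ∈ Cs A) (h2 : g ∈ Cs B) : g ∈ Cs (A ⊔ B) :=
  le_Cs_comm.1 (sup_le (le_Cs_comm.1 (zpowers_le.2 h1)) (le_Cs_comm.1 (zpowers_le.2 h2)))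
    (mem_zpowers g)

end WB

open WB

theorem Fa.one (h : Fa ν A U D θ q) : θ 1 = 1 := h.thA 1 (one_mem _)

theorem Fa.inv (h : Fa ν A U D θ q) (hg : g ∈ Ns A) : θ g⁻¹ = (θ g)⁻¹ :=
  eq_inv_of_mul_eq_one_left (by rw [← h.mul _ (inv_mem hg) _ hg, inv_mul_cancel, h.one])

theorem Fa.pow (h : Fa ν A U D θ q) (hg : g ∈ Ns A) (n : ℕ) : θ (g ^ n) = θ g ^ n := by
  induction n with
  | zero => rw [pow_zero, pow_zero, h.one]
  | succ n ih => rw [pow_succ, pow_succ, h.mul _ (pow_mem hg n) _ hg, ih]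

theorem Fa.conj (h : Fa ν A U D θ q) (hg : g ∈ Ns A) (hg' : g' ∈ Ns A) :
    θ (g * g' * g⁻¹) = θ g' := by
  rw [h.mul _ (mul_mem hg hg') _ (inv_mem hg), h.mul _ hg _ hg', h.inv hg, mul_inv_cancel_comm]

theorem Fa.comm (h : Fa ν A U D θ q) (hg : g ∈ Ns A) (hg' : g' ∈ Ns A) : θ ⁅g, g'⁆ = 1 := by
  rw [commutatorElement_def, h.mul _ (mul_mem (mul_mem hg hg') (inv_mem hg)) _ (inv_mem hg'),
    h.conj hg hg', h.inv hg', mul_inv_cancel]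

theorem Fa.of_Cs (h : Fa ν A U D θ q) (hg : g ∈ Cs A) : θ g = 1 := (h.ker g (h.cD hg)).2 hg

theorem Fa.DA (h : Fa ν A U D θ q) (hp : p ∈ D) : p ∈ Ns A := (h.dN hp).1

theorem Fa.DU (h : Fa ν A U D θ q) (hp : p ∈ D) : p ∈ Ns U := (h.dN hp).2

theorem Fa.tw_eq (h : Fa ν A U D θ q) (hg : g ∈ A) (hc : g ∈ Cs A) (h2 : Comp.Tw g) : g = 1 :=
  tw_odd h.zo ⟨hg, hc⟩ h2

theorem Fa.infC (h : Fa ν A U D θ q) : U ⊓ Cs A = ⊥ :=
  eq_bot_iff.2 fun _ hg => h.tw_eq (h.syl.le hg.1) hg.2 (.of_mem h.up.two hg.1)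

theorem Fa.U_ne (h : Fa ν A U D θ q) : U ≠ ⊥ := fun e => by
  have := h.up.card
  rw [e, card_bot] at this
  have := Nat.one_lt_pow (a := q) (n := ν.N) (by have := ν.h7; omega) h.up.le
  omega

theorem Fa.nab (h : Fa ν A U D θ q) : ¬ A ≤ Cs A := fun e =>
  h.U_ne (by rw [← h.infC, inf_eq_left.2 (h.syl.le.trans e)])

theorem Fa.ord (h : Fa ν A U D θ q) (hp : p ∈ Ns A) {n : ℕ} (h1 : orderOf (θ p).2 = n)
    (h2 : p ^ n = 1) : orderOf (θ p) = n :=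
  Nat.dvd_antisymm (orderOf_dvd_of_pow_eq_one (by rw [← h.pow hp, h2, h.one]))
    (h1 ▸ orderOf_snd_dvd_orderOf)

namespace WR

variable (h : WR ν A B U V D E θ η q t X P)
include h

theorem tB : cj t B = A := by rw [← h.tA, cj_cj_t h.t2]

theorem tV : cj t V = U := by rw [← h.tU, cj_cj_t h.t2]

theorem tE : cj t E = D := by rw [← h.tD, cj_cj_t h.t2]

theorem tNA : t * g * t⁻¹ ∈ Ns B ↔ g ∈ Ns A := by
  rw [← h.tA, Ns, ← cj_normalizer, conj_mem_cj]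

theorem tNB : t * g * t⁻¹ ∈ Ns A ↔ g ∈ Ns B := by
  rw [← h.tB, Ns, ← cj_normalizer, conj_mem_cj]

theorem tη (hg : g ∈ Ns B) : θ (t * g * t⁻¹) = η g := by
  rw [← h.tθ _ (h.tNB.2 hg), tt_conj h.t2]

theorem symm : WR ν B A V U E D η θ q t X P where
  fa := h.fb
  fb := h.fa
  t2 := h.t2
  tA := h.tB
  tU := h.tV
  tD := h.tE
  tθ _ hg := h.tη hg
  com := le_Cs_comm.1 h.com
  top := h.top
  nL := sup_comm A B ▸ h.nL
  odd := sup_comm A B ▸ h.odd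
  sw g e := sup_comm A B ▸ h.sw g (by rw [← e, cj_cj_t (Comp.conj_sq h.t2 g)])
  two := h.two
  mem := h.mem
  pure := inf_comm D E ▸ h.pure
  syl := sup_comm A B ▸ sup_comm U V ▸ h.syl

theorem comm (hg : g ∈ A) (hg' : g' ∈ B) : Commute g g' := (mem_Cs.1 (h.com hg) _ hg').symm

theorem tw_eq (hg : g ∈ A) (hg' : g ∈ B) (h2 : Comp.Tw g) : g = 1 :=
  h.fa.tw_eq hg (le_Cs_comm.1 h.com hg') h2

theorem tw_Cs (hg : g ∈ Cs A) (hg' : g ∈ Cs B) (h2 : Comp.Tw g) : g = 1 :=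
  tw_odd h.odd (mem_Cs_sup hg hg') h2

theorem UV : U ≤ Cs V := h.fa.syl.le.trans (h.com.trans (Cs_anti h.fb.syl.le))

theorem infU : U ⊓ V = ⊥ := eq_bot_iff.2 fun _ hg =>
  h.tw_eq (h.fa.syl.le hg.1) (h.fb.syl.le hg.2) (.of_mem h.fa.up.two hg.1)

theorem UG : U ⊔ V ≤ A ⊔ B := sup_le_sup h.fa.syl.le h.fb.syl.le

theorem GA : A ⊔ B ≤ Ns A := sup_le le_normalizer ((le_Cs_comm.1 h.com).trans Cs_le_Ns)

theorem GB : A ⊔ B ≤ Ns B := sup_comm B A ▸ h.symm.GA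

theorem ne : A ≠ B := fun e => h.fa.nab (h.com.trans (e ▸ le_rfl))

theorem tM : t ∈ Ns (A ⊔ B) := h.nL (mem_C1.2 rfl)

theorem tN : t ∉ Ns A := fun e => h.ne ((mem_Ns_iff.1 e).symm.trans h.tA)

theorem θG (hg : g ∈ A ⊔ B) : θ g = 1 := by
  obtain ⟨c, hc, d, hd, rfl⟩ := (SG2.mem_sup_Cs h.com).1 hg
  have := le_Cs_comm.1 h.com hd
  rw [h.fa.mul _ (le_normalizer hc) _ (Cs_le_Ns this), h.fa.thA c hc, h.fa.of_Cs this, one_mul]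

theorem ηG (hg : g ∈ A ⊔ B) : η g = 1 := h.symm.θG (sup_comm A B ▸ hg)

theorem decU (hg : g ∈ U ⊔ V) : ∃ c ∈ U, ∃ d ∈ V, c * d = g := (SG2.mem_sup_Cs h.UV).1 hg

theorem le : A ⊔ B ≤ X := by
  have k : ∀ K : Subgroup G, ⁅K, K⁆ = K → K ≤ X := fun K hK =>
    hK ▸ commutator_le.2 fun c _ d _ => h.top.ef_comm h.t2 c d
  exact sup_le (k _ h.fa.perf) (k _ h.fb.perf)

theorem nX (g : G) : g ∈ Ns X := by
  have := h.top.normal
  rw [Ns, normalizer_eq_top]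
  trivial

theorem nrm {K : Subgroup G} (sm : ∀ N : Subgroup G, N ≤ K → K ≤ Ns N → N ≤ Cs K ∨ N = K)
    (k1 : ¬ K ≤ Cs K) (h1 : K ≤ A ⊔ B) (h2 : A ⊔ B ≤ Ns K) : K = A ∨ K = B := by
  have k : ∀ L : Subgroup G, (∀ N : Subgroup G, N ≤ L → L ≤ Ns N → N ≤ Cs L ∨ N = L) → ⁅L, L⁆ = L →
      ¬ L ≤ Cs L → L ≤ A ⊔ B → A ⊔ B ≤ Ns L → K = L ∨ L ≤ Cs K := fun L hs hp l0 l1 l2 => by
    rcases hs _ inf_le_right (le_Ns_inf (l1.trans h2) le_normalizer) with e | e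
    · have e1 : ⁅⁅L, K⁆, L⁆ = ⊥ := commutator_eq_bot_iff_le_centralizer.2 ((le_inf
        (commutator_le_right_of_le (l1.trans h2)) (commutator_le_left_of_le (h1.trans l2))).trans e)
      refine .inr (commutator_eq_bot_iff_le_centralizer.1 ?_)
      rw [← hp]
      exact commutator_commutator_eq_bot_of_rotate e1 (commutator_comm L K ▸ e1)
    · exact (sm L (inf_eq_right.1 e) (h1.trans l2)).symm.imp_left .symm
  rcases k A h.fa.sm h.fa.perf h.fa.nab le_sup_left h.GA with e | e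
  · exact .inl e
  rcases k B h.fb.sm h.fb.perf h.fb.nab le_sup_right h.GB with e' | e'
  · exact .inr e'
  exact (k1 (h1.trans (sup_le e e'))).elim

theorem cjA {m : G} (hm : m ∈ Ns (A ⊔ B)) : cj m A = A ∨ cj m A = B := by
  have e := mem_Ns_iff.1 hm
  refine h.nrm (fun N h1 h2 => ?_)
    (fun e => h.fa.nab (by rwa [Cs, ← cj_centralizer, cj_le_cj] at e)) (e ▸ cj_mono m le_sup_left)
    (by rw [← e, Ns, ← cj_normalizer]; exact cj_mono m h.GA)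
  obtain ⟨N, rfl⟩ := cj_surj m N
  rw [Ns, ← cj_normalizer, cj_le_cj] at h2
  exact (h.fa.sm N (cj_le_cj.1 h1) h2).imp
    (fun e => by rw [Cs, ← cj_centralizer]; exact cj_mono m e) fun e => by rw [e]

theorem perm {m : G} (hm : m ∈ Ns (A ⊔ B)) :
    (m ∈ Ns A ∧ m ∈ Ns B) ∨ (cj m A = B ∧ cj m B = A) := by
  have k : cj m A ≠ cj m B := fun e => h.ne (cj_injective m e)
  rcases h.cjA hm with e | e <;> rcases h.symm.cjA (sup_comm A B ▸ hm) with e' | e'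
  · exact .inl ⟨mem_Ns_iff.2 e, mem_Ns_iff.2 e'⟩
  · exact (k (e.trans e'.symm)).elim
  · exact (k (e.trans e'.symm)).elim
  · exact .inr ⟨e, e'⟩

theorem NB {m : G} (hm : m ∈ Ns (A ⊔ B)) (hA : m ∈ Ns A) : m ∈ Ns B :=
  (h.perm hm).elim (·.2) fun e => (h.ne ((mem_Ns_iff.1 hA).symm.trans e.1)).elim

theorem swp {m : G} (hm : m ∈ Ns (A ⊔ B)) (hA : m ∉ Ns A) : cj m A = B ∧ cj m B = A :=
  (h.perm hm).resolve_left fun e => hA e.1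

theorem NM {m : G} (hA : m ∈ Ns A) (hB : m ∈ Ns B) : m ∈ Ns (A ⊔ B) := mem_Ns_sup hA hB

theorem idx : ∀ c ∈ Ns (A ⊔ B), ∀ d ∈ Ns (A ⊔ B), c ∉ Ns A → d ∉ Ns A → c * d ∈ Ns A :=
  fun c hc d hd h1 h2 => mem_Ns_iff.2 (by rw [cj_mul, (h.swp hd h2).1, (h.swp hc h1).2])

theorem conj_iff {m : G} (hm : m ∈ Ns (A ⊔ B)) (hg : g ∈ Ns (A ⊔ B)) :
    m * g * m⁻¹ ∈ Ns A ↔ g ∈ Ns A := Comp.conj_mem_iff_of_idx h.idx hm hg

theorem card_sup {K L : Subgroup G} (hK : K ≤ A) (hL : L ≤ B) (h1 : IsPGroup 2 K) :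
    Nat.card (K ⊔ L : Subgroup G) = Nat.card K * Nat.card L :=
  SG2.card_sup_Cs (hK.trans (h.com.trans (Cs_anti hL)))
    (eq_bot_iff.2 fun _ hg => h.tw_eq (hK hg.1) (hL hg.2) (.of_mem h1 hg.1))

theorem two_sup {K L : Subgroup G} (hK : K ≤ A) (hL : L ≤ B) (h1 : IsPGroup 2 K)
    (h2 : IsPGroup 2 L) : IsPGroup 2 (K ⊔ L : Subgroup G) :=
  Comp.isPGroup_sup h1 h2 ((le_Cs_comm.1 (hK.trans (h.com.trans (Cs_anti hL)))).trans Cs_le_Ns)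

theorem comp_comm {c d m : G} (hc : c ∈ A) (hd : d ∈ B) (c2 : Comp.Tw c) (hA : m ∈ Ns A)
    (hB : m ∈ Ns B) (e : Commute m (c * d)) : Commute m c ∧ Commute m d := by
  have e1 : c⁻¹ * (m * c * m⁻¹) = d * (m * d * m⁻¹)⁻¹ := by
    rw [inv_mul_eq_iff_eq_mul, ← mul_assoc c, eq_mul_inv_iff_mul_eq, conj_mul, e.eq,
      mul_inv_cancel_right]
  have zB : c⁻¹ * (m * c * m⁻¹) ∈ B := e1 ▸ mul_mem hd (inv_mem (mem_normalizer_conj hB hd))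
  have e2 := h.tw_eq (mul_mem (inv_mem hc) (mem_normalizer_conj hA hc)) zB (tw_mul (tw_inv c2)
    (c2.conj m) (by simpa using ((Commute.refl c).mul_right (h.comm hc zB)).inv_left))
  rw [e2] at e1
  exact ⟨mul_inv_eq_iff_eq_mul.1 (inv_mul_eq_one.1 e2).symm,
    mul_inv_eq_iff_eq_mul.1 (mul_inv_eq_one.1 e1.symm).symm⟩

theorem conj_sw (hg : g ∈ Ns (A ⊔ B)) (hs : g ∉ Ns A) (hv : v ∈ Ns (A ⊔ B)) (hn : v ∈ Ns A) :
    θ (g * v * g⁻¹) = η v ∧ η (g * v * g⁻¹) = θ v := by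
  have h2 := h.idx g hg t h.tM hs h.tN
  rw [show g * v * g⁻¹ = g * t * (t * v * t⁻¹) * (g * t)⁻¹ by
    rw [show g * t * (t * v * t⁻¹) * (g * t)⁻¹ = g * (t * (t * v * t⁻¹) * t⁻¹) * g⁻¹ by group,
      tt_conj h.t2]]
  exact ⟨(h.fa.conj h2 (h.tNB.2 (h.NB hv hn))).trans (h.tη (h.NB hv hn)),
    (h.fb.conj (h.NB (mul_mem hg h.tM) h2) (h.tNA.2 hn)).trans (h.tθ v hn)⟩

theorem conj_th (hg : g ∈ Ns (A ⊔ B)) (hv : v ∈ Ns (A ⊔ B)) (hn : v ∈ Ns A) :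
    (θ (g * v * g⁻¹) = θ v ∧ η (g * v * g⁻¹) = η v) ∨
      (θ (g * v * g⁻¹) = η v ∧ η (g * v * g⁻¹) = θ v) := by
  by_cases h1 : g ∈ Ns A
  · exact .inl ⟨h.fa.conj h1 hn, h.fb.conj (h.NB hg h1) (h.NB hv hn)⟩
  · exact .inr (h.conj_sw hg h1 hv hn)

theorem sq_sw (hs : s ∈ Ns (A ⊔ B)) (hn : s ∉ Ns A) :
    θ (s * s) = θ (s * t) * η (s * t) ∧ η (s * s) = θ (s * s) := by
  have h1 := h.idx s hs t h.tM hn h.tN
  have h2 := h.NB (mul_mem hs h.tM) h1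
  refine ⟨?_, ?_⟩
  · rw [← h.tη h2, ← h.fa.mul _ h1 _ (h.tNB.2 h2)]
    congr 1
    rw [show s * t * (t * (s * t) * t⁻¹) = s * (t * t) * s by group, h.t2, mul_one]
  · rw [← (h.conj_sw hs hn (mul_mem hs hs) (h.idx s hs s hs hn hn)).1]
    congr 1
    group

end WR

end Cfsg.Lib.SEE.Wr
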