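import Cfsg.Agent.SEE.WU
import Cfsg.Agent.SEE.WQ
import Cfsg.Agent.SEE.WT
import Cfsg.Agent.Local.IsolatedP

/-!
# The wreathed configuration: two transfer arguments
-/

set_option autoImplicit false
set_option linter.unusedSectionVars false
set_option linter.unusedVariables false

namespace Cfsg.Lib.SEE.Wr

open Subgroup Cfsg.Lib.Trans Cfsg.Lib.Gold
open Cfsg.Lib.SG2 (Top Uq)
open Cfsg.Lib.SF4.Wr (lcs)
open scoped commutatorElement

variable {G C : Type*} [Group G] [Finite G] [CommGroup C] [Finite C] [IsCyclic C] {ν : Nm}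
  {A B U V D E X P W T : Subgroup G} {θ η : G → ℤˣ × C} {t g g' p s v φ ψ : G} {q r e : ℕ}

namespace WY

theorem two_dvd {m n : ℕ} (hm : m ∣ orderOf g) (h : g ^ 2 ^ n = 1) (h1 : m ≠ 1) :
    ∃ i, i < n ∧ m = 2 ^ (i + 1) := by
  obtain ⟨i, hi, rfl⟩ := (Nat.dvd_prime_pow Nat.prime_two).1 (hm.trans (orderOf_dvd_of_pow_eq_one h))
  rcases i with _ | i
  · exact absurd rfl h1
  · exact ⟨i, hi, rfl⟩

theorem sq_pow (g : G) (n : ℕ) : (g * g) ^ 2 ^ n = g ^ 2 ^ (n + 1) := by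
  rw [← pow_two, ← pow_mul, ← pow_succ']

theorem ord_snd (h : Fa ν A U D θ q) (hg : g ∈ Ns A) {n : ℕ} (h1 : (θ (g ^ 2 ^ n)).2 ≠ 1)
    (h2 : g ^ 2 ^ (n + 1) = 1) : orderOf (θ g).2 = 2 ^ (n + 1) := by
  have := Fact.mk Nat.prime_two
  refine orderOf_eq_prime_pow (by rwa [← Prod.pow_snd, ← h.pow hg]) ?_
  rw [← Prod.pow_snd, ← h.pow hg, h2, h.one, Prod.snd_one]

theorem ord_sq {γ : C} {n : ℕ} (h : orderOf γ = 2 ^ (n + 1)) : orderOf (γ ^ 2) = 2 ^ n := by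
  rw [orderOf_pow_of_dvd two_ne_zero (h ▸ dvd_pow_self 2 (by omega)), h, pow_succ,
    Nat.mul_div_cancel _ two_pos]

theorem part (h : WR ν A B U V D E θ η q t X P) (hg : g ∈ (U ⊔ V ⊔ P) ⊓ X) :
    ∃ c ∈ U, ∃ d ∈ V, ∃ p ∈ P, p ∈ X ∧ g = c * d * p ∧ (g ∈ Ns A ↔ p ∈ Ns A) ∧
      (p ∈ Ns A → θ g = θ p ∧ η g = η p) ∧ (∀ n : ℕ, g ^ n = 1 → p ^ n = 1) ∧
      θ (g * g) = θ (p * p) := by
  obtain ⟨c, hc, d, hd, p, hp, rfl⟩ := h.decomp hg.1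
  obtain ⟨a1, a2, a3, a4, a5⟩ := h.part (h.UG (mul_mem_sup hc hd)) hp
  exact ⟨c, hc, d, hd, p, hp, a4.1 hg.2, rfl, a1, a2, a3, a5⟩

end WY

open WY

namespace WR
variable (h : WR ν A B U V D E θ η q t X P)
include h

theorem caseY (hv : v ∈ P) (hX : v ∈ X) (hn : v ∈ Ns A) {j : ℕ} (hφ : Ph D E θ η P (v ^ 2 ^ j))
    (hc : ∀ a ∈ (U ⊔ V ⊔ P) ⊓ X, ∀ b ∈ (U ⊔ V ⊔ P) ⊓ X, (θ ⁅a, b⁆).2 ∈ zpowers ((θ v).2 ^ 2))
    (hsw : ∀ s ∈ P, s ∈ X → s ∉ Ns A → (θ (s * s)).2 = 1) : False := by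
  have SM := h.S_M
  have v1 : v ^ 2 ^ (j + 1) = 1 := by rw [pow_succ, pow_mul, sq, hφ.sq]
  have key : ∀ i n, i + n = j → ∀ k, k * v ^ 2 ^ i * k⁻¹ ∈ (U ⊔ V ⊔ P) ⊓ X →
      k * v ^ 2 ^ i * k⁻¹ ∈ Ns A ∧ orderOf (θ (k * v ^ 2 ^ i * k⁻¹)).2 = 2 ^ (n + 1) := by
    intro i n e k hk
    have e1 : (k * v ^ 2 ^ i * k⁻¹) ^ 2 ^ n = k * v ^ 2 ^ j * k⁻¹ := by
      rw [conj_pow, ← pow_mul, ← pow_add, e]
    obtain ⟨i0, i1, -⟩ := h.iso hφ (g := k) (e1 ▸ pow_mem hk.1 _)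
    rw [← e1] at i0 i1
    have wA : k * v ^ 2 ^ i * k⁻¹ ∈ Ns A := by
      by_contra wn
      obtain ⟨-, -, -, -, p, hp, pX, -, a1, -, -, a2⟩ := WY.part h hk
      rcases n with _ | n
      · exact wn (by simpa using i0)
      · rw [← sq_pow, h.fa.pow (h.idx _ (SM hk.1) _ (SM hk.1) wn wn), a2, Prod.pow_snd,
          hsw p hp pX (mt a1.2 wn), one_pow] at i1
        exact i1 rfl
    refine ⟨wA, ord_snd h.fa wA i1 ?_⟩
    rw [conj_pow, ← pow_mul, ← pow_add, ← add_assoc, e, v1, mul_one, mul_inv_cancel]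
  have key0 : ∀ k, k * v * k⁻¹ ∈ (U ⊔ V ⊔ P) ⊓ X →
      k * v * k⁻¹ ∈ Ns A ∧ orderOf (θ (k * v * k⁻¹)).2 = 2 ^ (j + 1) := fun k hk => by
    simpa using key 0 j (zero_add j) k (by simpa using hk)
  have o1 : orderOf (θ v).2 = 2 ^ (j + 1) := by
    simpa using (key0 1 (by simpa using ⟨mem_sup_right hv, hX⟩)).2
  have o2 := ord_sq o1
  let T : Subgroup G :=
    { carrier := {g | g ∈ Ns A ∧ (θ g).2 ∈ zpowers ((θ v).2 ^ 2)}
      mul_mem' := fun {a b} ha hb => ⟨mul_mem ha.1 hb.1, by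
        rw [h.fa.mul _ ha.1 _ hb.1]; exact mul_mem ha.2 hb.2⟩
      one_mem' := ⟨one_mem _, by rw [h.fa.one]; exact one_mem _⟩
      inv_mem' := fun {a} ha => ⟨inv_mem ha.1, by rw [h.fa.inv ha.1]; exact inv_mem ha.2⟩ }
  have odd : ∀ k, k * v * k⁻¹ ∈ (U ⊔ V ⊔ P) ⊓ X → k * v * k⁻¹ ∉ T →
      ∃ a : ℤ, (θ (k * v * k⁻¹)).2 = ((θ v).2 ^ 2) ^ a * (θ v).2 := fun k a b => by
    obtain ⟨n, e⟩ := Local.Iso.mem_zpowers_of_isCyclic o1
      ((key0 k a).2 ▸ pow_orderOf_eq_one (θ (k * v * k⁻¹)).2)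
    rcases Int.even_or_odd' n with ⟨m, rfl | rfl⟩
    · exact absurd ⟨(key0 k a).1, m, by rw [← e]; simp only; rw [zpow_mul]; norm_cast⟩ b
    · exact ⟨m, by rw [← e]; simp only; rw [zpow_add_one, zpow_mul]; norm_cast⟩
  obtain ⟨κ, k1, k2, -⟩ := SG2.thompson_sub (T := T) (Q := ⊥) h.top.perf h.syl0
    (fun a ha b hb => ⟨Comp.comm_mem_of_idx h.idx (SM ha.1) (SM hb.1), hc a ha b hb⟩) hX ⟨_, v1⟩
    (fun m hm m1 k hk => by
      obtain ⟨i, hi, rfl⟩ := two_dvd hm v1 m1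
      rcases (Nat.le_of_lt_succ hi).eq_or_lt with rfl | hi
      · rw [v1, mul_one, mul_inv_cancel]; exact one_mem _
      · obtain ⟨n, e⟩ := Nat.exists_eq_add_of_le hi
        obtain ⟨a, b⟩ := key (i + 1) n e.symm k hk
        exact ⟨a, Local.Iso.mem_zpowers_of_isCyclic o2 (orderOf_dvd_iff_pow_eq_one.1
          (b ▸ pow_dvd_pow 2 (by omega)))⟩)
    (fun k l a b c d => by
      obtain ⟨m, e⟩ := odd k a c
      obtain ⟨n, e'⟩ := odd l b d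
      refine ⟨mul_mem (key0 k a).1 (key0 l b).1, m + n + 1, ?_⟩
      rw [h.fa.mul _ (key0 k a).1 _ (key0 l b).1, Prod.snd_mul, e, e', mul_mul_mul_comm, ← sq]
      simp only [zpow_add, zpow_one])
    IsPGroup.of_bot bot_le bot_le
  have := orderOf_dvd_natCard _ k2.2
  rw [(key0 κ k1).2, Nat.card_zpowers, o2, Nat.pow_dvd_pow_iff_le_right one_lt_two] at this
  omega

theorem caseE (hs : s ∈ P) (hX : s ∈ X) (hn : s ∉ Ns A) {j : ℕ}
    (hφ : Ph D E θ η P ((s * s) ^ 2 ^ j))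
    (hj : j = 0 ∨ (θ (s * s)).1 = 1 ∧
      ∀ s' ∈ P, s' ∈ X → s' ∉ Ns A → orderOf (θ (s' * s')).2 = 2 ^ (j + 1)) : False := by
  have SM := h.S_M
  have sM := h.P_M hs
  have hc := mul_mem hs hs
  have cA := h.idx s sM s sM hn hn
  have c1 : (s * s) ^ 2 ^ (j + 1) = 1 := by rw [pow_succ, pow_mul, sq, hφ.sq]
  have s1 : s ^ 2 ^ (j + 2) = 1 := by rw [← sq_pow, c1]
  have o0 := ord_snd h.fa cA hφ.ne c1
  have o1 := h.fa.ord cA o0 c1
  obtain ⟨W', w1, w2, w3⟩ := exists_diag (ν := ν) (W := U ⊓ C1 (s * s)) h.com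
    (eq_bot_iff.2 fun g hg => h.tw_eq (h.fa.syl.le hg.1.1) hg.2 (.of_mem h.fa.up.two hg.1.1))
    (h.swp sM hn).1 (inf_le_inf_right _ h.fa.syl.le) h.fa.up.two.to_inf_left
  obtain ⟨κ, k1, k2, k3⟩ := SG2.thompson_sub (T := Ns A) h.top.perf h.syl0
    (fun a ha b hb => Comp.comm_mem_of_idx h.idx (SM ha.1) (SM hb.1)) hX ⟨_, s1⟩
    (fun m hm m1 k hk => by
      obtain ⟨i, hi, rfl⟩ := two_dvd hm s1 m1
      rcases hj with rfl | ⟨-, hj⟩
      · rcases (show i = 0 ∨ i = 1 by omega) with rfl | rfl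
        · rw [← sq_pow] at hk ⊢
          exact (h.iso hφ hk.1).1
        · rw [s1, mul_one, mul_inv_cancel]; exact one_mem _
      · obtain ⟨-, -, -, -, p, hp, pX, -, a1, -, a2, -⟩ := WY.part h hk
        refine a1.2 (by_contra fun pn => ?_)
        have e := a2 (2 ^ (j + 1)) (by
          rw [conj_pow, ← pow_mul, ← pow_add, show i + 1 + (j + 1) = j + 2 + i by omega, pow_add,
            pow_mul, s1, one_pow, mul_one, mul_inv_cancel])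
        have e1 : (θ (p * p)).2 ^ 2 ^ j = 1 := by
          rw [← Prod.pow_snd, ← h.fa.pow (h.idx p (h.P_M hp) p (h.P_M hp) pn pn), sq_pow, e,
            h.fa.one, Prod.snd_one]
        have := orderOf_dvd_of_pow_eq_one e1
        rw [hj p hp pX pn, Nat.pow_dvd_pow_iff_le_right one_lt_two] at this
        omega)
    (fun k l a b c d => h.idx _ (SM a.1) _ (SM b.1) c d) w2 (w1.trans (inf_le_left.trans h.le))
    (w1.trans inf_le_right)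
  obtain ⟨-, i1, i2⟩ := h.iso hφ (g := κ) (by
    rw [sq_pow, ← conj_pow]; exact pow_mem k1.1 _)
  rw [sq_pow, ← conj_pow] at i1 i2
  obtain ⟨c, hc', d, hd, p, hp, -, ex, a1, a2, a3, -⟩ := WY.part h k1
  have pA := a1.1 k2
  have x1 : (κ * s * κ⁻¹) ^ 2 ^ (j + 2) = 1 := by rw [conj_pow, s1, mul_one, mul_inv_cancel]
  have kB := h.NB (SM k1.1) k2
  have pB := h.NB (h.P_M hp) pA
  have o2 : orderOf (θ p).2 = 2 ^ (j + 2) := (a2 pA).1 ▸ ord_snd h.fa k2 i1 x1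
  have o3 : orderOf (η p).2 = 2 ^ (j + 2) := (a2 pA).2 ▸ ord_snd h.fb kB i2 x1
  obtain ⟨i, hi, ei⟩ := h.descent hc' hd hp pA o2 o3 (ex ▸ x1)
  replace ei : i * κ * s * (i * κ)⁻¹ = p := by rw [← ei, ← ex]; group
  have g1 : (θ (s * s)).1 = 1 := by
    refine hj.elim (fun e => ?_) (·.1)
    subst e
    have q1 : θ (p * p) = (1, (θ p).2 ^ 2) := by
      rw [h.fa.mul _ pA _ pA]; exact Prod.ext (Int.units_mul_self _) (sq _).symm
    have q2 : η (p * p) = (1, (η p).2 ^ 2) := by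
      rw [h.fb.mul _ pB _ pB]; exact Prod.ext (Int.units_mul_self _) (sq _).symm
    have q3 : ∀ {γ : C}, orderOf γ = 2 ^ (0 + 2) → γ ^ 2 ≠ 1 ∧ γ ^ 2 * γ ^ 2 = 1 := fun {γ} e =>
      ⟨pow_ne_one_of_lt_orderOf two_ne_zero (by rw [e]; norm_num), by
        rw [← pow_add]; exact orderOf_dvd_iff_pow_eq_one.1 (by rw [e]; norm_num)⟩
    have q4 := (h.P_diag (mul_mem hp hp) (mul_mem pA pA)).2 (by
      rw [q1, q2, SF4.Wr.inv_uniq (q3 o2).1 (q3 o2).2 (q3 o3).1 (q3 o3).2])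
    have q5 : i * κ * (s * s) * (i * κ)⁻¹ = p * p := by rw [← conj_mul, ei]
    obtain ⟨m, hm, e⟩ := h.uq.fus h.tM h.t2 (g := i * κ) (v := s * s)
      (by simpa using h.ph_t hφ) (q5 ▸ q4)
    have q6 : θ (m * (s * s) * m⁻¹) = θ (s * s) :=
      (h.conj_th hm (mul_mem sM sM) cA).elim (·.1) fun e => e.1.trans (h.sq_sw sM hn).2
    rw [← q6, e, q5, q1]
  have cD := (h.P_nsw hc cA).1
  obtain ⟨r, hr⟩ := h.fa.fx _ cD g1
  have pD := h.P_nsw hp pA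
  have f1 := h.fa.fc _ cD (o1.trans o0.symm)
  rw [hr.card, o1] at f1
  have o4 := h.fa.ord pA o2 (a3 _ x1)
  have o5 := h.fb.ord pB o3 (a3 _ x1)
  have f2 := (h.fa.fc _ pD.1 (o4.trans o2.symm)).trans f1.symm
  have f3 := (h.fb.fc _ pD.2 (o5.trans o3.symm)).trans f1.symm
  rw [o4, pow_succ' 2 (j + 1), pow_mul] at f2
  rw [o5, pow_succ' 2 (j + 1), pow_mul] at f3
  replace f2 := Nat.pow_left_injective (by positivity) f2
  replace f3 := Nat.pow_left_injective (by positivity) f3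
  have l1 : cj (i * κ) W' ≤ (U ⊔ V ⊔ P) ⊓ X := by
    rw [cj_mul]
    exact (cj_mono i k3).trans (cj_eq_of_mem_normalizer (le_normalizer
      (mem_inf.2 ⟨mem_sup_left hi, h.le (h.UG hi)⟩))).le
  have l2 : cj (i * κ) W' ≤ (U ⊔ V ⊔ P) ⊓ C1 p := le_inf (l1.trans inf_le_left) (by
    rw [← ei, ← cj_C1]; exact cj_mono _ (w1.trans inf_le_right))
  have up := (w3 r hr).cj (i * κ)
  refine h.emb hp pA up l2 (up.gen.trans ((closure_le _).2 fun v ⟨hv, v2, v3⟩ => ?_)) f2 f3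
  by_contra vn
  rcases hj with rfl | ⟨-, hj⟩
  · have e1 : r ^ 2 = q := Nat.pow_left_injective (n := ν.N) (by have := ν.h7; omega)
      (by simp only; rw [← f1, ← pow_mul, ← pow_mul, mul_comm]; rfl)
    have e2 := v3.trans (h.sw_small hp pA (l1 hv).1 vn (inf_le_inf_right _ l2))
    have e3 := h.card_P
    rw [← e1, ← pow_mul] at e3
    have e4 : r ^ (ν.s * 2) < r ^ (2 * 4 * 2 + ν.N) := by
      rw [pow_mul, pow_add, ← f2, pow_mul r (2 * 4), ← mul_pow]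
      exact Nat.pow_lt_pow_left (e2.trans_lt (Nat.mul_lt_mul_of_pos_right e3 Nat.card_pos))
        two_ne_zero
    have := (Nat.pow_lt_pow_iff_right hr.le).1 e4
    have := ν.hs
    omega
  · obtain ⟨-, -, -, -, p', hp', pX, -, b1, -, b2, -⟩ := WY.part h (l1 hv)
    have e := hj p' hp' pX (mt b1.2 vn)
    rw [← sq, b2 2 (by rw [sq, v2]), h.fa.one, Prod.snd_one, orderOf_one] at e
    exact absurd e (Nat.one_lt_two_pow (by omega)).ne

end WR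

end Cfsg.Lib.SEE.Wr
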